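import Cfsg.Agent.H715.Fpr.Row4
import Cfsg.Agent.H940.EngData
import Cfsg.Agent.H904.HSIso

/-!
# Fixed point ratios: `HS` (helper715)
-/

set_option autoImplicit false

namespace Cfsg.Agent.H715.Fpr.HS

open Subgroup Cfsg.Agent.H409 Cfsg.Agent.OrdDiv Cfsg.Agent.H940.Eng Cfsg.Agent.H940.Eng.D Cfsg.Spor

variable {G : Type} [Group G]

theorem card (h : IsoHS G) : Nat.card G = n_hs := KFacts.HS.card h
theorem fin (h : IsoHS G) : Finite G := Nat.finite_of_card_ne_zero (by rw [card h]; decide)
theorem simple (h : IsoHS G) : IsSimpleGroup G := by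
  obtain ⟨e⟩ := h
  obtain ⟨⟨f⟩, hs⟩ := HN.AutHS.nonempty_Q
  exact (e.trans f.symm).isSimpleGroup_congr.2 hs

theorem cn7 (h : IsoHS G) {R : Subgroup G} (hR : Nat.card R = 7) :
    Nat.card (centralizer (R : Set G)) = 7 ∧ Nat.card (normalizer (R : Set G)) = 42 := by
  refine ⟨?_, (H904.TwoHS.seven h R hR).2⟩
  obtain ⟨x, hx, rfl⟩ := eq_zpowers' (by norm_num) hR
  rw [cent_zpowers']
  exact H904.HSIso.card_seven h hx

theorem cn11 (h : IsoHS G) {R : Subgroup G} (hR : Nat.card R = 11) :
    Nat.card (centralizer (R : Set G)) = 11 ∧ Nat.card (normalizer (R : Set G)) = 55 := by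
  obtain ⟨-, -, H⟩ := H904.TwoHS.eleven h
  exact H R hR

def loc : List LD := [⟨7, 7, [(2, 1), (3, 1), (7, 1)]⟩, ⟨11, 11, [(5, 1), (11, 1)]⟩]

theorem ctx (B : Base) (h : IsoHS G) : Ctx G l_hs n_hs o_hs loc where
  fin := fin h
  simple := simple h
  card := card h
  val := v_hs
  nodup := nd_hs
  ords := ords_hs B
  loc := by
    have := fin h
    have := simple h
    intro ld hld
    simp only [loc, List.mem_cons, List.not_mem_nil, or_false] at hld
    rcases hld with rfl | rfl
    · exact loc_of_eq (card h) (by decide +kernel) (by decide +kernel) (by decide +kernel) fun R hR => by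
        obtain ⟨h1, h2⟩ := cn7 h hR
        rw [h1, h2]; decide
    · exact loc_of_eq (card h) (by decide +kernel) (by decide +kernel) (by decide +kernel) fun R hR => by
        obtain ⟨h1, h2⟩ := cn11 h hR
        rw [h1, h2]; decide

theorem row2 (B : Base) (h : IsoHS G) : FprRow 3 1 2 G := by
  have := fin h
  exact row_of_act3 (ctx B h) (q := 7) (N := 42) (by decide +kernel) (by decide +kernel) (by decide +kernel)
    (acts_of (card h) (by decide +kernel) (by decide +kernel) (by decide +kernel) (fun _ hR => cn7 h hR) 1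
      (by decide +kernel))
    (fun _ hR => (cn7 h hR).2) 27 0 lb_zero [22] 0 (by decide +kernel) (by decide +kernel)

theorem row3 (B : Base) (h : IsoHS G) : FprRow 4 1 3 G := by
  have := fin h
  exact row_of_act3 (ctx B h) (q := 7) (N := 42) (by decide +kernel) (by decide +kernel) (by decide +kernel)
    (acts_of (card h) (by decide +kernel) (by decide +kernel) (by decide +kernel) (fun _ hR => cn7 h hR) 1
      (by decide +kernel))
    (fun _ hR => (cn7 h hR).2) 48 0 lb_zero [22, 44] 0 (by decide +kernel) (by decide +kernel)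

theorem row5 (B : Base) (h : IsoHS G) : FprRow 6 1 5 G := by
  have := fin h
  exact row_of_act3 (ctx B h) (q := 11) (N := 55) (by decide +kernel) (by decide +kernel) (by decide +kernel)
    (acts_of (card h) (by decide +kernel) (by decide +kernel) (by decide +kernel) (fun _ hR => cn11 h hR) 1
      (by decide +kernel))
    (fun _ hR => (cn11 h hR).2) 60 0 lb_zero [] 0 (by decide +kernel) (by decide +kernel)

theorem row7 (B : Base) (h : IsoHS G) : FprRow 8 1 7 G :=
  row_of_norm3 (ctx B h) (by decide +kernel) (by decide +kernel) (by decide +kernel) (fun _ hR => (cn7 h hR).2)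
    48 0 lb_zero [22, 44] 0 (by decide +kernel) (by decide +kernel)

theorem row11 (B : Base) (h : IsoHS G) : FprRow 12 1 11 G :=
  row_of_norm3 (ctx B h) (by decide +kernel) (by decide +kernel) (by decide +kernel) (fun _ hR => (cn11 h hR).2)
    60 0 lb_zero [] 0 (by decide +kernel) (by decide +kernel)

/-- **the rows of `HS`** -/
theorem row (B : Base) (h : IsoHS G) {p : ℕ} (hp : p.Prime) (hd : p ∣ Nat.card G) : FprRow (p + 1) 1 p G := by
  have h1 := valid_mem v_hs hp (by rw [← card h]; exact hd)
  simp only [l_hs, List.map_cons, List.map_nil, List.mem_cons, List.not_mem_nil, or_false] at h1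
  rcases h1 with rfl | rfl | rfl | rfl | rfl
  · exact row2 B h
  · exact row3 B h
  · exact row5 B h
  · exact row7 B h
  · exact row11 B h

universe u in
theorem rowIso (B : Base) {S : Type u} [Group S] (h : Cfsg.Spor.IsoHS S) {p : ℕ} (hp : p.Prime)
    (hd : p ∣ Nat.card S) : FprRow (p + 1) 1 p S := by
  obtain ⟨e⟩ := h
  have hI : Spor.IsoHS Spor.HS := ⟨MulEquiv.refl _⟩
  have := fin hI
  exact (row B hI hp (by rw [← Nat.card_congr e.toEquiv]; exact hd)).of_mulEquiv hp e.symm

end Cfsg.Agent.H715.Fpr.HS
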