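import Cfsg.Agent.H715.Fpr.Row3

/-!
# Fixed points of a `p`-element acting on a Sylow subgroup of prime order: the exact form (helper715)
-/

set_option autoImplicit false

namespace Cfsg.Agent.H715.Fpr

open Subgroup MulAction Cfsg.Agent.H409 Cfsg.Agent.H940.Eng Cfsg.Agent.OrdDiv

universe u

variable {S : Type u} [Group S] [Finite S]

/-- all elements of order `p` -/
theorem fix_prime_all_dvd {p : ℕ} (hp : p.Prime) (h2 : ¬ p ^ 2 ∣ Nat.card S) (H : Subgroup S) {x : S}
    (hxo : orderOf x = p) : Nat.card (fixedBy (S ⧸ H) x) = 0 ∨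
    ∃ R : Subgroup S, Nat.card R = p ∧ p * Nat.card (fixedBy (S ⧸ H) x) ∣ Nat.card (normalizer (R : Set S)) := by
  by_cases h0 : Nat.card (fixedBy (S ⧸ H) x) = 0
  · exact Or.inl h0
  · have h1 : Nonempty (fixedBy (S ⧸ H) x) := by
      by_contra hno
      rw [not_nonempty_iff] at hno
      exact h0 (Nat.card_of_isEmpty)
    obtain ⟨w, hw⟩ := h1
    obtain ⟨a, rfl⟩ := QuotientGroup.mk_surjective w
    have h3 : ((x * a : S) : S ⧸ H) = (a : S) := hw
    have h4 := QuotientGroup.eq.1 h3.symm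
    rw [← mul_assoc] at h4
    have h5 : orderOf (a⁻¹ * x * a) = p := by
      have h5 : a⁻¹ * x * a = MulAut.conj a⁻¹ x := by simp
      rw [h5, MulEquiv.orderOf_eq, hxo]
    rw [← card_fixedBy_conj H x a]
    exact Or.inr ⟨zpowers (a⁻¹ * x * a), by rw [Nat.card_zpowers, h5], fix_prime_mem_dvd hp h2 h4 h5⟩

/-- all numbers `f ≡ d mod q` with `q f ∣ N` (or `f = 0`) satisfy `(p + 1) (d + (q - 1) f) ≤ q d` -/
def actB (p q N d : ℕ) : Bool :=
  (List.range (N / q + 1)).all fun f => (f != 0 && N % (q * f) != 0) || f % q != d % q ||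
    Nat.ble ((p + 1) * (d + (q - 1) * f)) (q * d)

/-- **the exact form for an action on a Sylow subgroup of order `q`** -/
theorem fix_of_actB {p q : ℕ} (hq : q.Prime) (h2 : ¬ q ^ 2 ∣ Nat.card S) {H : Subgroup S} (ha : Acts p q S)
    {LN : List ℕ} (hN : ∀ R : Subgroup S, Nat.card R = q → Nat.card (normalizer (R : Set S)) ∈ LN)
    (hc : (LN.all fun N => actB p q N H.index) = true) :
    ∃ x : S, (∃ k : ℕ, orderOf x = p ^ k) ∧ (p + 1) * Nat.card (fixedBy (S ⧸ H) x) ≤ 1 * Nat.card (S ⧸ H) := by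
  obtain ⟨g, y, hgo, hyo, hyg, hne⟩ := ha
  refine ⟨y, hyo, ?_⟩
  have hcard : Nat.card (S ⧸ H) = H.index := rfl
  have h3 := fix_regular hq hgo hyg hne H
  have hmod := fix_modEq hq H hgo
  rw [List.all_eq_true] at hc
  have key : (p + 1) * (H.index + (q - 1) * Nat.card (fixedBy (S ⧸ H) g)) ≤ q * H.index := by
    rcases fix_prime_all_dvd hq h2 H hgo with h0 | ⟨R, hR, hd⟩
    · have h4 : Nat.card (zpowers g) = q := by rw [Nat.card_zpowers, hgo]
      have h5 := hc _ (hN _ h4)
      unfold actB at h5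
      rw [List.all_eq_true] at h5
      have h6 := h5 0 (List.mem_range.2 (Nat.succ_pos _))
      rw [h0] at hmod ⊢
      rw [Bool.or_eq_true, Bool.or_eq_true, Bool.and_eq_true, bne_iff_ne, bne_iff_ne, bne_iff_ne, Nat.ble_eq] at h6
      rcases h6 with (h6 | h6) | h6
      · exact absurd rfl h6.1
      · exact absurd hmod h6
      · exact h6
    · have h5 := hc _ (hN R hR)
      unfold actB at h5
      rw [List.all_eq_true] at h5
      set f := Nat.card (fixedBy (S ⧸ H) g)
      set N := Nat.card (normalizer (R : Set S))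
      have hNpos : 0 < N := Nat.card_pos
      have h6 : f ≤ N / q := by
        rw [Nat.le_div_iff_mul_le hq.pos, mul_comm]
        exact Nat.le_of_dvd hNpos hd
      have h7 := h5 f (List.mem_range.2 (by omega))
      rw [Bool.or_eq_true, Bool.or_eq_true, Bool.and_eq_true, bne_iff_ne, bne_iff_ne, bne_iff_ne, Nat.ble_eq] at h7
      rcases h7 with (h7 | h7) | h7
      · exact absurd (Nat.mod_eq_zero_of_dvd hd) h7.2
      · exact absurd hmod h7
      · exact h7
  rw [hcard] at h3
  rw [one_mul, hcard]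
  have h8 : q * ((p + 1) * Nat.card (fixedBy (S ⧸ H) y)) ≤ q * H.index := by
    calc q * ((p + 1) * Nat.card (fixedBy (S ⧸ H) y)) = (p + 1) * (q * Nat.card (fixedBy (S ⧸ H) y)) := by ring
      _ ≤ (p + 1) * (H.index + (q - 1) * Nat.card (fixedBy (S ⧸ H) g)) := Nat.mul_le_mul_left _ h3
      _ ≤ q * H.index := key
  exact Nat.le_of_mul_le_mul_left h8 hq.pos

/-- the row from one action on a Sylow subgroup of order `q`; the indices in `allow` by the exact form -/
theorem row_of_act3 {G : Type u} [Group G] {l : List (ℕ × ℕ)} {n : ℕ} {ords : List ℕ} {loc : List LD}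
    (c : Ctx G l n ords loc) {p q N : ℕ} (hp : isPrimeB p = true) (hq : isPrimeB q = true)
    (hq2 : (n % q ^ 2 != 0) = true) (ha : Acts p q G)
    (hN : ∀ R : Subgroup G, Nat.card R = q → Nat.card (normalizer (R : Set G)) = N)
    (K lb : ℕ) (hlb : ∀ H : Subgroup G, H ≠ ⊤ → lb ≤ H.index) (allow : List ℕ) (bd : ℕ)
    (hal : (allow.all fun d => actB p q N d) = true)
    (hc : scheck l n ⟨p, [q], [], [], [(q, N)]⟩ K lb allow bd loc ords = true) : FprRow (p + 1) 1 p G := by
  have := c.fin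
  have hq2' : ¬ q ^ 2 ∣ Nat.card G := by
    rw [c.card]
    intro h
    rw [bne_iff_ne] at hq2
    exact hq2 (Nat.mod_eq_zero_of_dvd h)
  refine row_of_small c (D := ⟨p, [q], [], [], [(q, N)]⟩) (bd := bd)
    ⟨hp, by
      intro q' hq'
      rw [List.mem_singleton.1 hq']
      exact ⟨hq, ha⟩, by simp, by simp, by
      intro x hx
      rw [List.mem_singleton.1 hx]
      exact ⟨hq, ha, hq2', fun R hR => (hN R hR).le⟩⟩ hc hlb fun H _ hm => ?_
  refine fix_of_actB (prime_of hq) hq2' ha (LN := [N]) (fun R hR => List.mem_singleton.2 (hN R hR)) ?_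
  rw [List.all_eq_true] at hal
  simpa using hal _ hm

/-- the row at a prime dividing the order once; the indices in `allow` by the exact form -/
theorem row_of_norm3 {G : Type u} [Group G] {l : List (ℕ × ℕ)} {n : ℕ} {ords : List ℕ} {loc : List LD}
    (c : Ctx G l n ords loc) {p N : ℕ} (hp : isPrimeB p = true) (hp1 : (n % p == 0) = true)
    (hp2 : (n % p ^ 2 != 0) = true)
    (hN : ∀ R : Subgroup G, Nat.card R = p → Nat.card (normalizer (R : Set G)) = N)
    (K lb : ℕ) (hlb : ∀ H : Subgroup G, H ≠ ⊤ → lb ≤ H.index) (allow : List ℕ) (bd : ℕ)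
    (hal : (allow.all fun d => exactB p N d) = true)
    (hc : scheck l n ⟨p, [], [], [N], []⟩ K lb allow bd loc ords = true) : FprRow (p + 1) 1 p G := by
  have := c.fin
  have hp2' : ¬ p ^ 2 ∣ Nat.card G := by
    rw [c.card]
    intro h
    rw [bne_iff_ne] at hp2
    exact hp2 (Nat.mod_eq_zero_of_dvd h)
  refine row_of_small c (D := ⟨p, [], [], [N], []⟩) (bd := bd)
    ⟨hp, by simp, by simp, by
      intro N' hN' R hR
      rw [List.mem_singleton.1 hN']
      exact (hN R hR).le, by simp⟩ hc hlb fun H _ hm => ?_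
  refine fix_of_exactB (prime_of hp) (by rw [c.card]; exact Nat.dvd_of_mod_eq_zero (beq_iff_eq.1 hp1)) hp2' (LN := [N])
    (fun R hR => List.mem_singleton.2 (hN R hR)) ?_
  rw [List.all_eq_true] at hal
  simpa using hal _ hm

end Cfsg.Agent.H715.Fpr
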