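import Cfsg.Agent.H715.Fpr.Row
import Cfsg.Agent.H940.EngLoc

/-!
# Tools for the rows of the sporadic groups (helper715)
-/

set_option autoImplicit false

namespace Cfsg.Agent.H715.Fpr

open Subgroup MulAction Cfsg.Agent.H409 Cfsg.Agent.H940.Eng Cfsg.Agent.OrdDiv

universe u

theorem valid_mem {l : List (ℕ × ℕ)} {n : ℕ} (hv : valid l n = true) {p : ℕ} (hp : p.Prime) (hd : p ∣ n) :
    p ∈ l.map fun x => x.1 := by
  obtain ⟨k, hk, -⟩ := exists_pair hv hp le_rfl (by rw [pow_one]; exact hd)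
  exact List.mem_map.2 ⟨_, hk, rfl⟩

theorem card_normalizer_le {S : Type u} [Group S] [Finite S] {R : Subgroup S} {q : ℕ} (hq : q.Prime)
    (hR : Nat.card R = q) : Nat.card (normalizer (R : Set S)) ≤ (q - 1) * Nat.card (centralizer (R : Set S)) := by
  have := Fact.mk hq
  obtain ⟨e, he, hN⟩ := H904.SylOne.card_nc hR
  rw [hN, mul_comm]
  exact Nat.mul_le_mul_right _ (Nat.le_of_dvd (by have := hq.two_le; omega) he)

theorem cent_zpowers' {G : Type u} [Group G] (g : G) :
    centralizer ((zpowers g : Subgroup G) : Set G) = centralizer ({g} : Set G) := by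
  apply le_antisymm
  · exact centralizer_le (by simp)
  · intro x hx
    rw [mem_centralizer_iff]
    intro h hh
    obtain ⟨n, rfl⟩ := mem_zpowers_iff.1 hh
    have h1 : Commute x g := mem_centralizer_singleton_iff.1 hx
    exact (h1.zpow_right n).eq.symm

theorem eq_zpowers' {G : Type u} [Group G] {R : Subgroup G} {r : ℕ} (hr : r.Prime) (hR : Nat.card R = r) :
    ∃ x : G, orderOf x = r ∧ R = zpowers x := by
  have := Fact.mk hr
  have : Finite R := Nat.finite_of_card_ne_zero (by rw [hR]; exact hr.ne_zero)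
  obtain ⟨x, hx⟩ := exists_prime_orderOf_dvd_card' (G := R) r (by rw [hR])
  refine ⟨x, by rw [Subgroup.orderOf_coe, hx], ?_⟩
  symm
  apply eq_of_le_of_card_ge (zpowers_le.2 x.2)
  rw [hR, Nat.card_zpowers, Subgroup.orderOf_coe, hx]

/-- action from exact orders -/
theorem acts_of {S : Type u} [Group S] [Finite S] {n c m p q : ℕ} (hn : Nat.card S = n) (hp : isPrimeB p = true)
    (hq : isPrimeB q = true) (hqn : (n % q == 0) = true)
    (h : ∀ R : Subgroup S, Nat.card R = q → Nat.card (centralizer (R : Set S)) = c ∧ Nat.card (normalizer (R : Set S)) = m)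
    (k : ℕ) (h1 : (m % p ^ k == 0 && c % p ^ k != 0) = true) : Acts p q S := by
  obtain ⟨R, hR⟩ := exists_card_eq (G := S) hq (by rw [hn]; exact Nat.dvd_of_mod_eq_zero (by rwa [beq_iff_eq] at hqn))
  obtain ⟨h2, h3⟩ := h R hR
  rw [Bool.and_eq_true, beq_iff_eq, bne_iff_ne] at h1
  exact acts_of_card (prime_of hp) (prime_of hq) hR k (by rw [h3]; exact Nat.dvd_of_mod_eq_zero h1.1)
    (by rw [h2]; exact fun h => h1.2 (Nat.mod_eq_zero_of_dvd h))

/-- the row at a prime dividing the order once, from a bound for the normalizer -/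
theorem row_of_norm {G : Type u} [Group G] {l : List (ℕ × ℕ)} {n : ℕ} {ords : List ℕ} {loc : List LD}
    (c : Ctx G l n ords loc) {p N : ℕ} (hp : isPrimeB p = true)
    (hN : ∀ R : Subgroup G, Nat.card R = p → Nat.card (normalizer (R : Set G)) ≤ N)
    (bd : ℕ) (hc : rcheck l n ⟨p, [], [], [N]⟩ [] bd loc ords = true) : FprRow (p + 1) 1 p G :=
  row_of_check' c (D := ⟨p, [], [], [N]⟩) (bd := bd)
    ⟨hp, by simp, by simp, by
      intro N' hN' R hR
      rw [List.mem_singleton.1 hN']
      exact hN R hR⟩ hc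

/-- the row from one prime `q` -/
theorem row_of_act {G : Type u} [Group G] {l : List (ℕ × ℕ)} {n : ℕ} {ords : List ℕ} {loc : List LD}
    (c : Ctx G l n ords loc) {p q : ℕ} (hp : isPrimeB p = true) (hq : isPrimeB q = true) (ha : Acts p q G)
    (bd : ℕ) (hc : rcheck l n ⟨p, [q], [], []⟩ [] bd loc ords = true) : FprRow (p + 1) 1 p G :=
  row_of_check' c (D := ⟨p, [q], [], []⟩) (bd := bd)
    ⟨hp, by
      intro q' hq'
      rw [List.mem_singleton.1 hq']
      exact ⟨hq, ha⟩, by simp, by simp⟩ hc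

/-- the row from two primes `q`, `r` -/
theorem row_of_acts {G : Type u} [Group G] {l : List (ℕ × ℕ)} {n : ℕ} {ords : List ℕ} {loc : List LD}
    (c : Ctx G l n ords loc) {p q r : ℕ} (hp : isPrimeB p = true) (hq : isPrimeB q = true) (ha : Acts p q G)
    (hr : isPrimeB r = true) (hb : Acts p r G)
    (bd : ℕ) (hc : rcheck l n ⟨p, [q, r], [], []⟩ [] bd loc ords = true) : FprRow (p + 1) 1 p G :=
  row_of_check' c (D := ⟨p, [q, r], [], []⟩) (bd := bd)
    ⟨hp, by
      intro q' hq'
      simp only [List.mem_cons, List.not_mem_nil, or_false] at hq'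
      rcases hq' with rfl | rfl
      · exact ⟨hq, ha⟩
      · exact ⟨hr, hb⟩, by simp, by simp⟩ hc

end Cfsg.Agent.H715.Fpr
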