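import Mathlib
import Cfsg.Agent.H409.FprAvg
import Cfsg.Agent.H940.Engine

/-!
# Fixed point ratios in sporadic groups: the numerical criterion (helper715)

`row_of_check` : `FprRow (p + 1) 1 p G` from a context of the engine of helper940 and
* primes `q > p` such that a `p`-element acts nontrivially on a group of order `q` (`Acts`),
* the order `c` of the centralizer of a `p`-element,
* a bound `N` for the order of the normalizer of a subgroup of order `p` when `p² ∤ |G|`.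
-/

set_option autoImplicit false

namespace Cfsg.Agent.H715.Fpr

open Subgroup MulAction Cfsg.Agent.H409 Cfsg.Agent.H940.Eng Cfsg.Agent.OrdDiv

universe u

section general

variable {S : Type u} [Group S] [Finite S]

/-- an element acting fixed point freely on a group which is semiregular on the cosets -/
theorem fix_semireg {H C : Subgroup S} {x : S}
    (hN : ∀ c ∈ C, x * c * x⁻¹ ∈ C)
    (hC : ∀ c ∈ C, x * c = c * x → c = 1)
    (hd : ∀ c ∈ C, c ≠ 1 → ∀ g : S, g⁻¹ * c * g ∉ H) :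
    Nat.card C * Nat.card (fixedBy (S ⧸ H) x) ≤ Nat.card (S ⧸ H) := by
  have key : ∀ (c : S), c ∈ C → ∀ w : S ⧸ H, c • w = w → c = 1 := by
    intro c hc w hw
    by_contra h1
    obtain ⟨g, rfl⟩ := QuotientGroup.mk_surjective w
    refine hd c hc h1 g ?_
    have h2 : ((c * g : S) : S ⧸ H) = (g : S) := hw
    have h3 := QuotientGroup.eq.1 h2.symm
    rwa [← mul_assoc] at h3
  rw [← Nat.card_prod]
  refine Nat.card_le_card_of_injective (fun a : C × fixedBy (S ⧸ H) x => (a.1 : S) • (a.2 : S ⧸ H)) ?_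
  rintro ⟨⟨c, hc⟩, w, hw⟩ ⟨⟨c', hc'⟩, w', hw'⟩ h
  rw [mem_fixedBy] at hw hw'
  change c • w = c' • w' at h
  have h1 : (c'⁻¹ * c) • w = w' := by rw [mul_smul, h, inv_smul_smul]
  have hd' : c'⁻¹ * c ∈ C := mul_mem (inv_mem hc') hc
  have h2 : (x * (c'⁻¹ * c) * x⁻¹) • w = w' := by
    have h3 : x⁻¹ • w = w := by rw [inv_smul_eq_iff, hw]
    rw [mul_smul, mul_smul, h3, h1, hw']
  have h3 : ((c'⁻¹ * c)⁻¹ * (x * (c'⁻¹ * c) * x⁻¹)) • w = w := by
    rw [mul_smul, h2, ← h1, inv_smul_smul]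
  have h4 := key _ (mul_mem (inv_mem hd') (hN _ hd')) w h3
  have h5 : x * (c'⁻¹ * c) = (c'⁻¹ * c) * x := by
    have h6 := inv_mul_eq_one.1 h4
    calc x * (c'⁻¹ * c) = (x * (c'⁻¹ * c) * x⁻¹) * x := by group
      _ = (c'⁻¹ * c) * x := by rw [← h6]
  have h6 : c'⁻¹ * c = 1 := hC _ hd' h5
  have h7 : c' = c := inv_mul_eq_one.1 h6
  subst h7
  rw [h6, one_smul] at h1
  subst h1
  rfl

/-- fixed points and centralizers -/
theorem fix_le_cent (H : Subgroup S) (x : S) :
    Nat.card (fixedBy (S ⧸ H) x) ≤ Nat.card (centralizer ({x} : Set S)) := by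
  classical
  have hHpos : 0 < Nat.card H := Nat.card_pos
  apply Nat.le_of_mul_le_mul_left _ hHpos
  -- an injection from `H × Fix` to `H × C(x)`
  let r : fixedBy (S ⧸ H) x → S := fun w => (w : S ⧸ H).out
  have hr : ∀ w : fixedBy (S ⧸ H) x, ((r w : S) : S ⧸ H) = w := fun w => Quotient.out_eq' _
  have hmem : ∀ w : fixedBy (S ⧸ H) x, (r w)⁻¹ * x * r w ∈ H := by
    intro w
    have h1 : x • (w : S ⧸ H) = w := w.2
    rw [← hr w] at h1
    have h2 : ((x * r w : S) : S ⧸ H) = (r w : S) := h1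
    have h3 := QuotientGroup.eq.1 h2.symm
    rwa [← mul_assoc] at h3
  -- for every value `y` choose `g₀` with `g₀⁻¹ x g₀ = y`
  let c : H → S := fun y => if h : ∃ g : S, g⁻¹ * x * g = y then h.choose else 1
  have hc : ∀ (y : H) (g : S), g⁻¹ * x * g = y → (c y)⁻¹ * x * c y = y := by
    intro y g hg
    have h : ∃ g : S, g⁻¹ * x * g = y := ⟨g, hg⟩
    change (if h : ∃ g : S, g⁻¹ * x * g = y then h.choose else 1 : S)⁻¹ * x *
      (if h : ∃ g : S, g⁻¹ * x * g = y then h.choose else 1 : S) = y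
    rw [dif_pos h]
    exact h.choose_spec
  let v : H × fixedBy (S ⧸ H) x → S := fun a => r a.2 * (a.1 : S)
  have hv : ∀ a, (v a)⁻¹ * x * v a ∈ H := by
    intro a
    have h1 : (v a)⁻¹ * x * v a = (a.1 : S)⁻¹ * ((r a.2)⁻¹ * x * r a.2) * (a.1 : S) := by
      change (r a.2 * (a.1 : S))⁻¹ * x * (r a.2 * (a.1 : S)) = _
      group
    rw [h1]
    exact mul_mem (mul_mem (inv_mem a.1.2) (hmem _)) a.1.2
  have hcc : ∀ a, v a * (c ⟨_, hv a⟩)⁻¹ ∈ centralizer ({x} : Set S) := by
    intro a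
    have h1 := hc ⟨_, hv a⟩ (v a) rfl
    rw [mem_centralizer_singleton_iff]
    set d := c ⟨_, hv a⟩
    have h2 : d⁻¹ * x * d = (v a)⁻¹ * x * v a := h1
    have h3 : x * d = d * ((v a)⁻¹ * x * v a) := by rw [← h2]; group
    calc v a * d⁻¹ * x = v a * (d⁻¹ * x * d) * d⁻¹ := by group
      _ = v a * ((v a)⁻¹ * x * v a) * d⁻¹ := by rw [h2]
      _ = x * (v a * d⁻¹) := by group
  rw [← Nat.card_prod, ← Nat.card_prod]
  refine Nat.card_le_card_of_injective (fun a : H × fixedBy (S ⧸ H) x =>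
    ((⟨_, hv a⟩, ⟨_, hcc a⟩) : H × centralizer ({x} : Set S))) ?_
  intro a b hab
  rw [Prod.mk.injEq] at hab
  obtain ⟨h1, h2⟩ := hab
  have h3 : v a * (c ⟨_, hv a⟩)⁻¹ = v b * (c ⟨_, hv b⟩)⁻¹ := congrArg Subtype.val h2
  rw [h1] at h3
  have h4 : v a = v b := mul_right_cancel h3
  have h5 : (a.2 : S ⧸ H) = b.2 := by
    rw [← hr a.2, ← hr b.2]
    have h6 : r a.2 * (a.1 : S) = r b.2 * (b.1 : S) := h4
    apply QuotientGroup.eq.2
    have h7 : (r a.2)⁻¹ * r b.2 = (a.1 : S) * (b.1 : S)⁻¹ := by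
      calc (r a.2)⁻¹ * r b.2 = (r a.2)⁻¹ * (r b.2 * (b.1 : S)) * (b.1 : S)⁻¹ := by group
        _ = (r a.2)⁻¹ * (r a.2 * (a.1 : S)) * (b.1 : S)⁻¹ := by rw [← h6]
        _ = (a.1 : S) * (b.1 : S)⁻¹ := by group
    rw [h7]
    exact mul_mem a.1.2 (inv_mem b.1.2)
  have h8 : a.2 = b.2 := Subtype.ext h5
  have h9 : (a.1 : S) = b.1 := by
    have h6 : r a.2 * (a.1 : S) = r b.2 * (b.1 : S) := h4
    rw [h8] at h6
    exact mul_left_cancel h6
  exact Prod.ext (Subtype.ext h9) h8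

/-- a `p`-element acting nontrivially on a group of prime order `q` -/
def Acts (p q : ℕ) (S : Type u) [Group S] : Prop :=
  ∃ g y : S, orderOf g = q ∧ (∃ k : ℕ, orderOf y = p ^ k) ∧ y * g * y⁻¹ ∈ zpowers g ∧ y * g ≠ g * y

omit [Finite S] in
theorem Acts.fix [Finite S] {p q : ℕ} (hq : q.Prime) (h : Acts p q S) {H : Subgroup S} (hH : ¬ q ∣ Nat.card H) :
    ∃ x : S, (∃ k : ℕ, orderOf x = p ^ k) ∧ q * Nat.card (fixedBy (S ⧸ H) x) ≤ Nat.card (S ⧸ H) := by
  obtain ⟨g, y, hg, hy, hyg, hne⟩ := h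
  have hcard : Nat.card (zpowers g) = q := by rw [Nat.card_zpowers, hg]
  have hfact := Fact.mk hq
  have hgen : ∀ c ∈ zpowers g, c ≠ 1 → zpowers c = zpowers g := by
    intro c hc hc1
    apply eq_of_le_of_card_ge (zpowers_le.2 hc)
    rw [hcard]
    have h1 : orderOf c ∣ q := by rw [← hcard]; exact Subgroup.orderOf_dvd_natCard _ hc
    have h2 : orderOf c = q := ((Nat.dvd_prime hq).1 h1).resolve_left (fun h => hc1 (orderOf_eq_one_iff.1 h))
    rw [Nat.card_zpowers, h2]
  refine ⟨y, hy, ?_⟩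
  rw [← hcard]
  refine fix_semireg ?_ ?_ ?_
  · intro c hc
    obtain ⟨k, rfl⟩ := mem_zpowers_iff.1 hc
    rw [← conj_zpow]
    exact zpow_mem hyg k
  · intro c hc hyc
    by_contra hc1
    apply hne
    have h1 : g ∈ zpowers c := by rw [hgen c hc hc1]; exact mem_zpowers g
    obtain ⟨k, rfl⟩ := mem_zpowers_iff.1 h1
    exact (Commute.zpow_right hyc k : Commute y (c ^ k))
  · intro c hc hc1 a ha
    apply hH
    have h1 : orderOf (a⁻¹ * c * a) = q := by
      have h2 : a⁻¹ * c * a = MulAut.conj a⁻¹ c := by simp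
      rw [h2, MulEquiv.orderOf_eq, ← Nat.card_zpowers, hgen c hc hc1, hcard]
    rw [← h1]
    exact Subgroup.orderOf_dvd_natCard _ ha

/-- action from the orders of centralizer and normalizer -/
theorem acts_of_card {p q : ℕ} (hp : p.Prime) (hq : q.Prime) {R : Subgroup S} (hR : Nat.card R = q) (k : ℕ)
    (h1 : p ^ k ∣ Nat.card (normalizer (R : Set S))) (h2 : ¬ p ^ k ∣ Nat.card (centralizer (R : Set S))) :
    Acts p q S := by
  have hfp := Fact.mk hp
  have hfq := Fact.mk hq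
  obtain ⟨P, hP⟩ := Sylow.exists_subgroup_card_pow_prime p h1
  have hcyc : IsCyclic R := isCyclic_of_prime_card hR
  obtain ⟨⟨g, hg⟩, hgen⟩ := hcyc.exists_generator
  have hRg : R = zpowers g := by
    apply le_antisymm
    · intro z hz
      obtain ⟨j, hj⟩ := mem_zpowers_iff.1 (hgen ⟨z, hz⟩)
      exact mem_zpowers_iff.2 ⟨j, congrArg Subtype.val hj⟩
    · exact zpowers_le.2 hg
  have hgo : orderOf g = q := by rw [← Nat.card_zpowers, ← hRg, hR]
  have hex : ∃ y ∈ P, (y : S) ∉ centralizer (R : Set S) := by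
    by_contra hno
    push Not at hno
    apply h2
    have h3 : P.map (normalizer (R : Set S)).subtype ≤ centralizer (R : Set S) := by
      rintro _ ⟨y, hy, rfl⟩
      exact hno y hy
    have h4 : Nat.card (P.map (normalizer (R : Set S)).subtype) = p ^ k := by
      rw [card_map_of_injective (subtype_injective _), hP]
    rw [← h4]
    exact card_dvd_of_le h3
  obtain ⟨y, hyP, hyC⟩ := hex
  refine ⟨g, y, hgo, ?_, ?_, ?_⟩
  · obtain ⟨j, hj⟩ := (IsPGroup.iff_orderOf.1 (IsPGroup.of_card hP)) ⟨y, hyP⟩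
    refine ⟨j, ?_⟩
    rw [← hj, Subgroup.orderOf_mk, Subgroup.orderOf_coe]
  · rw [← hRg]
    exact (mem_normalizer_iff.1 y.2 g).1 hg
  · intro hcomm
    apply hyC
    rw [mem_centralizer_iff]
    intro z hz
    rw [hRg] at hz
    obtain ⟨j, rfl⟩ := mem_zpowers_iff.1 hz
    exact ((Commute.zpow_right hcomm j : Commute (y : S) (g ^ j))).eq.symm

omit [Finite S] in
/-- a `p`-element of `N(⟨g⟩)` outside `C(g)` -/
theorem acts_of_elements {p q : ℕ} {g y : S} (hg : orderOf g = q) (hy : ∃ k : ℕ, orderOf y = p ^ k)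
    (h1 : y * g * y⁻¹ ∈ zpowers g) (h2 : y * g ≠ g * y) : Acts p q S := ⟨g, y, hg, hy, h1, h2⟩

/-- fixed points of elements of order `p` when `p² ∤ |S|` -/
theorem fix_prime {p : ℕ} (hp : p.Prime) (hpS : p ∣ Nat.card S) (h2 : ¬ p ^ 2 ∣ Nat.card S) {N : ℕ}
    (hN : ∀ R : Subgroup S, Nat.card R = p → Nat.card (normalizer (R : Set S)) ≤ N) (H : Subgroup S) :
    ∃ x : S, (∃ k : ℕ, orderOf x = p ^ k) ∧ p * Nat.card (fixedBy (S ⧸ H) x) ≤ N ∧
      (¬ p ∣ Nat.card H → Nat.card (fixedBy (S ⧸ H) x) = 0) := by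
  have hfp := Fact.mk hp
  by_cases hH : p ∣ Nat.card H
  · obtain ⟨x, hx⟩ := exists_prime_orderOf_dvd_card' (G := H) p hH
    have hxo : orderOf (x : S) = p := by rw [Subgroup.orderOf_coe, hx]
    refine ⟨x, ⟨1, by rw [hxo, pow_one]⟩, ?_, fun h => absurd hH h⟩
    set R : Subgroup S := zpowers (x : S) with hR
    have hRc : Nat.card R = p := by rw [hR, Nat.card_zpowers, hxo]
    have hRH : R ≤ H := zpowers_le.2 x.2
    refine le_trans ?_ (hN R hRc)
    set M := normalizer (R : Set S) with hM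
    have hH2 : ¬ p ^ 2 ∣ Nat.card H := fun h => h2 (h.trans (card_subgroup_dvd_card H))
    -- the fixed points are in the orbit of the base point
    have hfix : fixedBy (S ⧸ H) (x : S) ⊆ orbit M ((1 : S) : S ⧸ H) := by
      intro w hw
      obtain ⟨g, rfl⟩ := QuotientGroup.mk_surjective w
      have h3 : (((x : S) * g : S) : S ⧸ H) = (g : S) := hw
      have h4 := QuotientGroup.eq.1 h3.symm
      rw [← mul_assoc] at h4
      -- the subgroup generated by the conjugate
      set R' : Subgroup S := zpowers (g⁻¹ * (x : S) * g) with hR'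
      have hR'c : Nat.card R' = p := by
        rw [hR', Nat.card_zpowers]
        have h5 : g⁻¹ * (x : S) * g = MulAut.conj g⁻¹ (x : S) := by simp
        rw [h5, MulEquiv.orderOf_eq, hxo]
      have hR'H : R' ≤ H := zpowers_le.2 h4
      obtain ⟨h, hh⟩ := exists_conj_le (X := H) hp hH2 (R := R.subgroupOf H)
        (by rw [Nat.card_congr (subgroupOfEquivOfLe hRH).toEquiv, hRc]) (L := R'.subgroupOf H)
        (by rw [Nat.card_congr (subgroupOfEquivOfLe hR'H).toEquiv, hR'c])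
      have h6 : (h : S) * x * (h : S)⁻¹ ∈ R' := hh ⟨x, (mem_subgroupOf.2 (mem_zpowers (x : S))), rfl⟩
      have h7 : (g * (h : S)) * x * (g * (h : S))⁻¹ ∈ R := by
        obtain ⟨j, hj⟩ := mem_zpowers_iff.1 h6
        rw [mem_zpowers_iff]
        refine ⟨j, ?_⟩
        have h8 : (g⁻¹ * (x : S) * g) ^ j = g⁻¹ * (x : S) ^ j * g := by
          have := conj_zpow (i := j) (a := g⁻¹) (b := (x : S))
          rw [inv_inv] at this
          exact this
        rw [h8] at hj
        calc (x : S) ^ j = g * (g⁻¹ * (x : S) ^ j * g) * g⁻¹ := by group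
          _ = (g * (h : S)) * x * (g * (h : S))⁻¹ := by rw [hj]; group
      have h9 : g * (h : S) ∈ M := by
        rw [hM, ← conj_eq_iff]
        apply eq_of_le_of_card_ge
        · rintro _ ⟨z, hz, rfl⟩
          obtain ⟨j, rfl⟩ := mem_zpowers_iff.1 hz
          change (g * (h : S)) * (x : S) ^ j * (g * (h : S))⁻¹ ∈ R
          rw [← conj_zpow]
          exact zpow_mem h7 j
        · rw [card_map_of_injective (MulAut.conj _).injective]
      refine ⟨⟨g * (h : S), h9⟩, ?_⟩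
      change (((g * (h : S)) * 1 : S) : S ⧸ H) = (g : S)
      apply QuotientGroup.eq.2
      have h10 : (g * (h : S) * 1)⁻¹ * g = (h : S)⁻¹ := by group
      rw [h10]
      exact inv_mem h.2
    have h3 : Nat.card (fixedBy (S ⧸ H) (x : S)) ≤ Nat.card (orbit M ((1 : S) : S ⧸ H)) :=
      Nat.card_mono (Set.toFinite _) hfix
    have h4 : Nat.card (orbit M ((1 : S) : S ⧸ H)) * Nat.card (stabilizer M ((1 : S) : S ⧸ H)) = Nat.card M := by
      rw [Nat.card_congr (orbitEquivQuotientStabilizer M ((1 : S) : S ⧸ H)), mul_comm]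
      have := card_mul_index (stabilizer M ((1 : S) : S ⧸ H))
      exact this
    have h5 : p ≤ Nat.card (stabilizer M ((1 : S) : S ⧸ H)) := by
      rw [← hRc]
      have hRM : R ≤ M := le_normalizer
      have h6 : R.subgroupOf M ≤ stabilizer M ((1 : S) : S ⧸ H) := by
        intro z hz
        rw [mem_stabilizer_iff]
        change (((z : S) * 1 : S) : S ⧸ H) = ((1 : S) : S ⧸ H)
        apply QuotientGroup.eq.2
        have h7 : ((z : S) * 1)⁻¹ * 1 = (z : S)⁻¹ := by group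
        rw [h7]
        exact inv_mem (hRH hz)
      rw [← Nat.card_congr (subgroupOfEquivOfLe hRM).toEquiv]
      exact Nat.le_of_dvd Nat.card_pos (card_dvd_of_le h6)
    calc p * Nat.card (fixedBy (S ⧸ H) (x : S)) ≤
        Nat.card (stabilizer M ((1 : S) : S ⧸ H)) * Nat.card (orbit M ((1 : S) : S ⧸ H)) := Nat.mul_le_mul h5 h3
      _ = Nat.card M := by rw [mul_comm, h4]
  · obtain ⟨x, hx⟩ := exists_prime_orderOf_dvd_card' (G := S) p hpS
    have h0 : Nat.card (fixedBy (S ⧸ H) x) = 0 := by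
      rw [Nat.card_eq_zero]
      left
      refine ⟨fun w => ?_⟩
      obtain ⟨w, hw⟩ := w
      obtain ⟨g, rfl⟩ := QuotientGroup.mk_surjective w
      have h3 : ((x * g : S) : S ⧸ H) = (g : S) := hw
      have h4 := QuotientGroup.eq.1 h3.symm
      rw [← mul_assoc] at h4
      apply hH
      have h5 : orderOf (g⁻¹ * x * g) = p := by
        have h5 : g⁻¹ * x * g = MulAut.conj g⁻¹ x := by simp
        rw [h5, MulEquiv.orderOf_eq, hx]
      rw [← h5]
      exact Subgroup.orderOf_dvd_natCard _ h4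
    exact ⟨x, ⟨1, by rw [hx, pow_one]⟩, by rw [h0]; omega, fun _ => h0⟩

end general

/-! ### the numerical criterion -/

/-- the data at a prime `p`: primes `q` with an action, orders of centralizers of `p`-elements, bounds for `|N(P)|` -/
structure Dat where
  p : ℕ
  acts : List ℕ
  cent : List ℕ
  norm : List ℕ

/-- the meaning -/
structure Dat.Ok (D : Dat) (G : Type u) [Group G] : Prop where
  prime : isPrimeB D.p = true
  acts : ∀ q ∈ D.acts, isPrimeB q = true ∧ Acts D.p q G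
  cent : ∀ c ∈ D.cent, ∃ x : G, (∃ k : ℕ, orderOf x = D.p ^ k) ∧ Nat.card (centralizer ({x} : Set G)) ≤ c
  norm : ∀ N ∈ D.norm, ∀ R : Subgroup G, Nat.card R = D.p → Nat.card (normalizer (R : Set G)) ≤ N

/-- the index `d` is harmless -/
def Dat.good (D : Dat) (n d : ℕ) : Bool :=
  d % (D.p ^ 2) == 0 || (d % D.p == 0 && n % (D.p ^ 3) != 0) ||
  (D.acts.any fun q => Nat.ble (D.p + 1) q && (n / d) % q != 0) ||
  (D.cent.any fun c => Nat.ble ((D.p + 1) * c) d) ||
  (D.norm.any fun N => n % D.p == 0 && n % (D.p ^ 2) != 0 && Nat.ble ((D.p + 1) * (N / D.p)) d)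

theorem Dat.Ok.fix {D : Dat} {G : Type u} [Group G] [Finite G] (h : D.Ok G) {n : ℕ} (hn : Nat.card G = n)
    {H : Subgroup G} (hg : D.good n H.index = true) :
    ∃ x : G, (∃ k : ℕ, orderOf x = D.p ^ k) ∧
      (D.p + 1) * Nat.card (fixedBy (G ⧸ H) x) ≤ 1 * Nat.card (G ⧸ H) := by
  have hp : D.p.Prime := prime_of h.prime
  have hfp := Fact.mk hp
  have hcard : Nat.card (G ⧸ H) = H.index := rfl
  have hdiv : n / H.index = Nat.card H := by
    rw [← hn]
    exact Nat.div_eq_of_eq_mul_left (Nat.pos_of_ne_zero index_ne_zero_of_finite) (card_mul_index H).symm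
  unfold Dat.good at hg
  rw [Bool.or_eq_true, Bool.or_eq_true, Bool.or_eq_true, Bool.or_eq_true] at hg
  rcases hg with (((h1 | h1) | h1) | h1) | h1
  · rw [beq_iff_eq] at h1
    obtain ⟨x, hx, -, hle⟩ := exists_of_sq_dvd (G := G) (Ω := G ⧸ H) (p := D.p) (Nat.dvd_of_mod_eq_zero h1)
    exact ⟨x, hx, hle⟩
  · rw [Bool.and_eq_true, beq_iff_eq, bne_iff_ne] at h1
    obtain ⟨x, hx, -, hle⟩ := exists_of_dvd_of_card_le (G := G) (Ω := G ⧸ H) (p := D.p)
      (Nat.dvd_of_mod_eq_zero h1.1) (by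
        rw [hn]
        exact fun h => h1.2 (Nat.mod_eq_zero_of_dvd h))
    exact ⟨x, hx, hle⟩
  · rw [List.any_eq_true] at h1
    obtain ⟨q, hq, h2⟩ := h1
    rw [Bool.and_eq_true, Nat.ble_eq, bne_iff_ne, hdiv] at h2
    obtain ⟨hqp, hact⟩ := h.acts q hq
    obtain ⟨x, hx, hle⟩ := hact.fix (prime_of hqp) (H := H) (fun h => h2.2 (Nat.mod_eq_zero_of_dvd h))
    refine ⟨x, hx, ?_⟩
    rw [one_mul]
    exact (Nat.mul_le_mul_right _ h2.1).trans hle
  · rw [List.any_eq_true] at h1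
    obtain ⟨c, hc, h2⟩ := h1
    rw [Nat.ble_eq] at h2
    obtain ⟨x, hx, hle⟩ := h.cent c hc
    refine ⟨x, hx, ?_⟩
    rw [one_mul, hcard]
    exact (Nat.mul_le_mul_left _ ((fix_le_cent H x).trans hle)).trans h2
  · rw [List.any_eq_true] at h1
    obtain ⟨N, hN, h2⟩ := h1
    rw [Bool.and_eq_true, Bool.and_eq_true, Nat.ble_eq, bne_iff_ne, beq_iff_eq] at h2
    obtain ⟨⟨h3, h4⟩, h5⟩ := h2
    obtain ⟨x, hx, hle, -⟩ := fix_prime hp (by rw [hn]; exact Nat.dvd_of_mod_eq_zero h3)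
      (by rw [hn]; exact fun h => h4 (Nat.mod_eq_zero_of_dvd h)) (h.norm N hN) H
    refine ⟨x, hx, ?_⟩
    rw [one_mul, hcard]
    refine (Nat.mul_le_mul_left _ ?_).trans h5
    rw [Nat.le_div_iff_mul_le hp.pos, mul_comm]
    exact hle

/-- all indices dividing `n`, except `1` and those in `allow`, are harmless or excluded -/
def rcheck (l : List (ℕ × ℕ)) (n : ℕ) (D : Dat) (allow : List ℕ) (bd : ℕ) (loc : List LD) (ords : List ℕ) : Bool :=
  (divsT l).all fun d => d == 1 || D.good n d || allow.contains d || bad l n [] bd loc ords (n / d)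

/-- **the row from the check** -/
theorem row_of_check {G : Type u} [Group G] {l : List (ℕ × ℕ)} {n : ℕ} {ords : List ℕ} {loc : List LD}
    (c : Ctx G l n ords loc) {D : Dat} (h : D.Ok G) {allow : List ℕ} {bd : ℕ}
    (hc : rcheck l n D allow bd loc ords = true)
    (hal : ∀ H : Subgroup G, IsCoatom H → H.index ∈ allow → ∃ x : G, (∃ k : ℕ, orderOf x = D.p ^ k) ∧
      (D.p + 1) * Nat.card (fixedBy (G ⧸ H) x) ≤ 1 * Nat.card (G ⧸ H)) : FprRow (D.p + 1) 1 D.p G := by
  have := c.fin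
  have := c.simple
  refine FprRow.of_coatom fun H hH => ?_
  have hd : H.index ∈ divsT l := by
    apply mem_divsT (valid_prime c.val)
    rw [valid_prod c.val, ← c.card]
    exact index_dvd_card H
  unfold rcheck at hc
  rw [List.all_eq_true] at hc
  have h1 := hc _ hd
  rw [Bool.or_eq_true, Bool.or_eq_true, Bool.or_eq_true, beq_iff_eq, List.contains_iff_mem] at h1
  have hdiv : n / H.index = Nat.card H := by
    rw [← c.card]
    exact Nat.div_eq_of_eq_mul_left (Nat.pos_of_ne_zero index_ne_zero_of_finite) (card_mul_index H).symm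
  rcases h1 with ((h1 | h1) | h1) | h1
  · exact absurd (index_eq_one.1 h1) hH.1
  · exact h.fix c.card h1
  · exact hal H hH h1
  · rw [hdiv, not_bad c.val c.card c.ords c.loc (fun p hp => absurd hp List.not_mem_nil) hH.1] at h1
    exact absurd h1 (by decide)

theorem row_of_check' {G : Type u} [Group G] {l : List (ℕ × ℕ)} {n : ℕ} {ords : List ℕ} {loc : List LD}
    (c : Ctx G l n ords loc) {D : Dat} (h : D.Ok G) {bd : ℕ}
    (hc : rcheck l n D [] bd loc ords = true) : FprRow (D.p + 1) 1 D.p G :=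
  row_of_check c h hc fun _ _ hm => absurd hm List.not_mem_nil

end Cfsg.Agent.H715.Fpr
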