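import Cfsg.Agent.H715.Fpr.Row2

/-!
# Fixed points of elements of order `p`, `p² ∤ |S|`: the exact form (helper715)
-/

set_option autoImplicit false

namespace Cfsg.Agent.H715.Fpr

open Subgroup MulAction Cfsg.Agent.H409 Cfsg.Agent.H940.Eng Cfsg.Agent.OrdDiv

universe u

variable {S : Type u} [Group S] [Finite S]

/-- `p fix(x)` divides `|N(⟨x⟩)|` -/
theorem fix_prime_mem_dvd {p : ℕ} (hp : p.Prime) (h2 : ¬ p ^ 2 ∣ Nat.card S) {H : Subgroup S} {x : S}
    (hxH : x ∈ H) (hxo : orderOf x = p) :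
    p * Nat.card (fixedBy (S ⧸ H) x) ∣ Nat.card (normalizer ((zpowers x : Subgroup S) : Set S)) := by
  have hfp := Fact.mk hp
  set R : Subgroup S := zpowers x with hR
  have hRc : Nat.card R = p := by rw [hR, Nat.card_zpowers, hxo]
  have hRH : R ≤ H := zpowers_le.2 hxH
  set M := normalizer (R : Set S) with hM
  have hH2 : ¬ p ^ 2 ∣ Nat.card H := fun h => h2 (h.trans (card_subgroup_dvd_card H))
  have hfix : fixedBy (S ⧸ H) x ⊆ orbit M ((1 : S) : S ⧸ H) := by
    intro w hw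
    obtain ⟨g, rfl⟩ := QuotientGroup.mk_surjective w
    have h3 : ((x * g : S) : S ⧸ H) = (g : S) := hw
    have h4 := QuotientGroup.eq.1 h3.symm
    rw [← mul_assoc] at h4
    set R' : Subgroup S := zpowers (g⁻¹ * x * g) with hR'
    have hR'c : Nat.card R' = p := by
      rw [hR', Nat.card_zpowers]
      have h5 : g⁻¹ * x * g = MulAut.conj g⁻¹ x := by simp
      rw [h5, MulEquiv.orderOf_eq, hxo]
    have hR'H : R' ≤ H := zpowers_le.2 h4
    obtain ⟨h, hh⟩ := exists_conj_le (X := H) hp hH2 (R := R.subgroupOf H)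
      (by rw [Nat.card_congr (subgroupOfEquivOfLe hRH).toEquiv, hRc]) (L := R'.subgroupOf H)
      (by rw [Nat.card_congr (subgroupOfEquivOfLe hR'H).toEquiv, hR'c])
    have h6 : (h : S) * x * (h : S)⁻¹ ∈ R' := hh ⟨⟨x, hxH⟩, (mem_subgroupOf.2 (mem_zpowers x)), rfl⟩
    have h7 : (g * (h : S)) * x * (g * (h : S))⁻¹ ∈ R := by
      obtain ⟨j, hj⟩ := mem_zpowers_iff.1 h6
      rw [mem_zpowers_iff]
      refine ⟨j, ?_⟩
      have h8 : (g⁻¹ * x * g) ^ j = g⁻¹ * x ^ j * g := by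
        have := conj_zpow (i := j) (a := g⁻¹) (b := x)
        rw [inv_inv] at this
        exact this
      rw [h8] at hj
      calc x ^ j = g * (g⁻¹ * x ^ j * g) * g⁻¹ := by group
        _ = (g * (h : S)) * x * (g * (h : S))⁻¹ := by rw [hj]; group
    have h9 : g * (h : S) ∈ M := by
      rw [hM, ← conj_eq_iff]
      apply eq_of_le_of_card_ge
      · rintro _ ⟨z, hz, rfl⟩
        obtain ⟨j, rfl⟩ := mem_zpowers_iff.1 hz
        change (g * (h : S)) * x ^ j * (g * (h : S))⁻¹ ∈ R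
        rw [← conj_zpow]
        exact zpow_mem h7 j
      · rw [card_map_of_injective (MulAut.conj _).injective]
    refine ⟨⟨g * (h : S), h9⟩, ?_⟩
    change (((g * (h : S)) * 1 : S) : S ⧸ H) = (g : S)
    apply QuotientGroup.eq.2
    have h10 : (g * (h : S) * 1)⁻¹ * g = (h : S)⁻¹ := by group
    rw [h10]
    exact inv_mem h.2
  have hfix' : orbit M ((1 : S) : S ⧸ H) ⊆ fixedBy (S ⧸ H) x := by
    rintro _ ⟨⟨m, hm⟩, rfl⟩
    change ((x * (m * 1) : S) : S ⧸ H) = ((m * 1 : S) : S ⧸ H)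
    symm
    apply QuotientGroup.eq.2
    have h3 : (m * 1)⁻¹ * (x * (m * 1)) = m⁻¹ * x * m := by group
    rw [h3]
    apply hRH
    have h4 := (mem_normalizer_iff.1 (inv_mem hm) x).1 (mem_zpowers x)
    rwa [inv_inv] at h4
  have heq : fixedBy (S ⧸ H) x = orbit M ((1 : S) : S ⧸ H) := Set.Subset.antisymm hfix hfix'
  have h4 : Nat.card (orbit M ((1 : S) : S ⧸ H)) * Nat.card (stabilizer M ((1 : S) : S ⧸ H)) = Nat.card M := by
    rw [Nat.card_congr (orbitEquivQuotientStabilizer M ((1 : S) : S ⧸ H)), mul_comm]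
    exact card_mul_index (stabilizer M ((1 : S) : S ⧸ H))
  have h5 : p ∣ Nat.card (stabilizer M ((1 : S) : S ⧸ H)) := by
    rw [← hRc]
    have hRM : R ≤ M := le_normalizer
    have h6 : R.subgroupOf M ≤ stabilizer M ((1 : S) : S ⧸ H) := by
      intro z hz
      rw [mem_stabilizer_iff]
      change (((z : S) * 1 : S) : S ⧸ H) = ((1 : S) : S ⧸ H)
      apply QuotientGroup.eq.2
      have h7 : ((z : S) * 1)⁻¹ * 1 = (z : S)⁻¹ := by group
      rw [h7]
      exact inv_mem (hRH hz)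
    rw [← Nat.card_congr (subgroupOfEquivOfLe hRM).toEquiv]
    exact card_dvd_of_le h6
  rw [heq, ← h4, mul_comm p]
  exact mul_dvd_mul_left _ h5

/-- the number of fixed points modulo `p` -/
theorem fix_modEq {p : ℕ} (hp : p.Prime) (H : Subgroup S) {x : S} (hxo : orderOf x = p) :
    Nat.card (fixedBy (S ⧸ H) x) ≡ H.index [MOD p] := by
  have hfp := Fact.mk hp
  have hP : IsPGroup p (zpowers x) := IsPGroup.of_card (n := 1) (by rw [Nat.card_zpowers, hxo, pow_one])
  have h1 := hP.card_modEq_card_fixedPoints (S ⧸ H)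
  have h2 : fixedPoints (zpowers x) (S ⧸ H) = fixedBy (S ⧸ H) x := by
    ext w
    constructor
    · intro h
      exact h ⟨x, mem_zpowers x⟩
    · rintro h ⟨y, hy⟩
      have h3 : zpowers x ≤ stabilizer S w := zpowers_le.2 h
      exact h3 hy
  rw [h2] at h1
  exact h1.symm

/-- **exact form**: some element of order `p` has `f` fixed points with `f ≡ n mod p` and `f = 0` or `p f ∣ |N(R)|`, `|R| = p` -/
theorem fix_prime_exact {p : ℕ} (hp : p.Prime) (hpS : p ∣ Nat.card S) (h2 : ¬ p ^ 2 ∣ Nat.card S) (H : Subgroup S) :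
    ∃ x : S, orderOf x = p ∧ Nat.card (fixedBy (S ⧸ H) x) ≡ H.index [MOD p] ∧
      (Nat.card (fixedBy (S ⧸ H) x) = 0 ∨ ∃ R : Subgroup S, Nat.card R = p ∧
        p * Nat.card (fixedBy (S ⧸ H) x) ∣ Nat.card (normalizer (R : Set S))) := by
  have hfp := Fact.mk hp
  by_cases hH : p ∣ Nat.card H
  · obtain ⟨x, hx⟩ := exists_prime_orderOf_dvd_card' (G := H) p hH
    have hxo : orderOf (x : S) = p := by rw [Subgroup.orderOf_coe, hx]
    exact ⟨x, hxo, fix_modEq hp H hxo, Or.inr ⟨zpowers (x : S), by rw [Nat.card_zpowers, hxo],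
      fix_prime_mem_dvd hp h2 x.2 hxo⟩⟩
  · obtain ⟨x, hx⟩ := exists_prime_orderOf_dvd_card' (G := S) p hpS
    refine ⟨x, hx, fix_modEq hp H hx, Or.inl ?_⟩
    rw [Nat.card_eq_zero]
    left
    refine ⟨fun w => ?_⟩
    obtain ⟨w, hw⟩ := w
    obtain ⟨g, rfl⟩ := QuotientGroup.mk_surjective w
    have h3 : ((x * g : S) : S ⧸ H) = (g : S) := hw
    have h4 := QuotientGroup.eq.1 h3.symm
    rw [← mul_assoc] at h4
    apply hH
    have h5 : orderOf (g⁻¹ * x * g) = p := by
      have h5 : g⁻¹ * x * g = MulAut.conj g⁻¹ x := by simp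
      rw [h5, MulEquiv.orderOf_eq, hx]
    rw [← h5]
    exact Subgroup.orderOf_dvd_natCard _ h4

/-- all numbers `f ≡ d mod p` with `p f ∣ N` are at most `d / (p + 1)` -/
def exactB (p N d : ℕ) : Bool :=
  (List.range (N / p + 1)).all fun f => N % (p * f) != 0 || f % p != d % p || Nat.ble ((p + 1) * f) d

theorem fix_of_exactB {p : ℕ} (hp : p.Prime) (hpS : p ∣ Nat.card S) (h2 : ¬ p ^ 2 ∣ Nat.card S) {H : Subgroup S}
    {LN : List ℕ} (hN : ∀ R : Subgroup S, Nat.card R = p → Nat.card (normalizer (R : Set S)) ∈ LN)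
    (hc : (LN.all fun N => exactB p N H.index) = true) :
    ∃ x : S, (∃ k : ℕ, orderOf x = p ^ k) ∧ (p + 1) * Nat.card (fixedBy (S ⧸ H) x) ≤ 1 * Nat.card (S ⧸ H) := by
  obtain ⟨x, hx, hmod, h⟩ := fix_prime_exact hp hpS h2 H
  refine ⟨x, ⟨1, by rw [hx, pow_one]⟩, ?_⟩
  have hcard : Nat.card (S ⧸ H) = H.index := rfl
  rw [one_mul, hcard]
  rcases h with h | ⟨R, hR, h⟩
  · rw [h]; omega
  · rw [List.all_eq_true] at hc
    have h1 := hc _ (hN R hR)
    unfold exactB at h1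
    rw [List.all_eq_true] at h1
    set f := Nat.card (fixedBy (S ⧸ H) x)
    set N := Nat.card (normalizer (R : Set S))
    have hNpos : 0 < N := Nat.card_pos
    have h3 : f ≤ N / p := by
      rw [Nat.le_div_iff_mul_le hp.pos, mul_comm]
      exact Nat.le_of_dvd hNpos h
    have h4 := h1 f (List.mem_range.2 (by omega))
    rw [Bool.or_eq_true, Bool.or_eq_true, bne_iff_ne, bne_iff_ne, Nat.ble_eq] at h4
    rcases h4 with (h4 | h4) | h4
    · exact absurd (Nat.mod_eq_zero_of_dvd h) h4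
    · exact absurd hmod h4
    · exact h4

end Cfsg.Agent.H715.Fpr
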