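import Cfsg.Agent.H715.Fpr.Row4
import Cfsg.Agent.H940.EngData
import Cfsg.Agent.H904.McLCent
import Cfsg.Agent.TypeM.FactsMcL

/-!
# Fixed point ratios: `McL`, odd primes (helper715)
-/

set_option autoImplicit false

namespace Cfsg.Agent.H715.Fpr.McL

open Subgroup Cfsg.Agent.H409 Cfsg.Agent.OrdDiv Cfsg.Agent.H940.Eng Cfsg.Agent.H940.Eng.D Cfsg.Spor

variable {G : Type} [Group G]

theorem card (h : IsoMcL G) : Nat.card G = n_mcl := H904.McLCent.card_L h
theorem fin (h : IsoMcL G) : Finite G := Nat.finite_of_card_ne_zero (by rw [card h]; decide)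
theorem simple (h : IsoMcL G) : IsSimpleGroup G := (TypeM.FactsMcL.facts h).2.1

theorem cn7 (h : IsoMcL G) {R : Subgroup G} (hR : Nat.card R = 7) :
    Nat.card (centralizer (R : Set G)) ∣ 14 ∧ Nat.card (normalizer (R : Set G)) = 42 := H904.McLCent.seven h R hR

theorem cn11 (h : IsoMcL G) {R : Subgroup G} (hR : Nat.card R = 11) :
    Nat.card (centralizer (R : Set G)) = 11 ∧ Nat.card (normalizer (R : Set G)) = 55 := H904.McLCent.eleven h R hR

def loc : List LD := [⟨7, 14, [(2, 1), (3, 1), (7, 1)]⟩, ⟨11, 11, [(5, 1), (11, 1)]⟩]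

theorem ctx (B : Base) (h : IsoMcL G) : Ctx G l_mcl n_mcl o_mcl loc where
  fin := fin h
  simple := simple h
  card := card h
  val := v_mcl
  nodup := nd_mcl
  ords := ords_mcl B
  loc := by
    have := fin h
    have := simple h
    intro ld hld
    simp only [loc, List.mem_cons, List.not_mem_nil, or_false] at hld
    rcases hld with rfl | rfl
    · exact loc_of_eq (card h) (by decide +kernel) (by decide +kernel) (by decide +kernel) fun R hR => by
        obtain ⟨h1, h2⟩ := cn7 h hR
        rw [h2]; exact ⟨h1, by decide⟩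
    · exact loc_of_eq (card h) (by decide +kernel) (by decide +kernel) (by decide +kernel) fun R hR => by
        obtain ⟨h1, h2⟩ := cn11 h hR
        rw [h1, h2]; decide

theorem acts7 (h : IsoMcL G) : Acts 3 7 G := by
  have := fin h
  obtain ⟨R, hR⟩ := exists_card_eq (G := G) (r := 7) (by decide +kernel) (by rw [card h]; decide)
  obtain ⟨h1, h2⟩ := cn7 h hR
  exact acts_of_card (by norm_num) (by norm_num) hR 1 (by rw [h2]; norm_num) (fun h3 => absurd (h3.trans h1) (by norm_num))

theorem row3 (B : Base) (h : IsoMcL G) : FprRow 4 1 3 G :=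
  row_of_act3 (ctx B h) (q := 7) (N := 42) (by decide +kernel) (by decide +kernel) (by decide +kernel)
    (acts7 h) (fun _ hR => (cn7 h hR).2) 48 0 lb_zero [] 0 (by decide +kernel) (by decide +kernel)

theorem row5 (B : Base) (h : IsoMcL G) : FprRow 6 1 5 G := by
  have := fin h
  exact row_of_act3 (ctx B h) (q := 11) (N := 55) (by decide +kernel) (by decide +kernel) (by decide +kernel)
    (acts_of (card h) (by decide +kernel) (by decide +kernel) (by decide +kernel) (fun _ hR => cn11 h hR) 1
      (by decide +kernel))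
    (fun _ hR => (cn11 h hR).2) 60 0 lb_zero [45] 0 (by decide +kernel) (by decide +kernel)

theorem row7 (B : Base) (h : IsoMcL G) : FprRow 8 1 7 G :=
  row_of_norm3 (ctx B h) (by decide +kernel) (by decide +kernel) (by decide +kernel) (fun _ hR => (cn7 h hR).2)
    48 0 lb_zero [45] 0 (by decide +kernel) (by decide +kernel)

theorem row11 (B : Base) (h : IsoMcL G) : FprRow 12 1 11 G :=
  row_of_norm3 (ctx B h) (by decide +kernel) (by decide +kernel) (by decide +kernel) (fun _ hR => (cn11 h hR).2)
    60 0 lb_zero [45] 0 (by decide +kernel) (by decide +kernel)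

/-- **the rows of `McL`, odd primes** -/
theorem row (B : Base) (h : IsoMcL G) {p : ℕ} (hp : p.Prime) (hp2 : p ≠ 2) (hd : p ∣ Nat.card G) :
    FprRow (p + 1) 1 p G := by
  have h1 := valid_mem v_mcl hp (by rw [← card h]; exact hd)
  simp only [l_mcl, List.map_cons, List.map_nil, List.mem_cons, List.not_mem_nil, or_false] at h1
  rcases h1 with rfl | rfl | rfl | rfl | rfl
  · exact absurd rfl hp2
  · exact row3 B h
  · exact row5 B h
  · exact row7 B h
  · exact row11 B h

universe u in
theorem rowIso (B : Base) {S : Type u} [Group S] (h : Cfsg.Spor.IsoMcL S) {p : ℕ} (hp : p.Prime) (hp2 : p ≠ 2)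
    (hd : p ∣ Nat.card S) : FprRow (p + 1) 1 p S := by
  obtain ⟨e⟩ := h
  have hI : Spor.IsoMcL Spor.McL := ⟨MulEquiv.refl _⟩
  have := fin hI
  exact (row B hI hp hp2 (by rw [← Nat.card_congr e.toEquiv]; exact hd)).of_mulEquiv hp e.symm

end Cfsg.Agent.H715.Fpr.McL
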