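import Cfsg.Agent.H147.Fpr.Gen
import Cfsg.Agent.H715.Fpr.Row4

/-!
# Generating triples and indices (helper715)
-/

set_option autoImplicit false

namespace Cfsg.Agent.H715.Fpr

open Subgroup MulAction Cfsg.Agent.H409 Cfsg.Agent.H398.FPR Cfsg.Agent.H565.Scott Cfsg.Agent.H147.Fpr
open Cfsg.Agent.H940.Eng Cfsg.Agent.OrdDiv

universe u

/-- a generating triple of orders 2, 3, 11 and indices at least 12 -/
theorem fix_2_3_11 {S : Type u} [Group S] [Finite S] {x y : S} (hx : orderOf x = 2) (hy : orderOf y = 3)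
    (ht : orderOf (x * y) = 11) (hgen : closure ({x, y} : Set S) = ⊤) {H : Subgroup S} (hbig : 12 ≤ H.index) :
    3 * Nat.card (fixedBy (S ⧸ H) x) + 4 * Nat.card (fixedBy (S ⧸ H) y) ≤ Nat.card (S ⧸ H) := by
  have := Fintype.ofFinite (S ⧸ H)
  have h1 := ree_two (Ω := S ⧸ H) hgen
  have h2 := rk_prime (Ω := S ⧸ H) (p := 2) (by norm_num) hx
  have h3 := rk_prime (Ω := S ⧸ H) (p := 3) (by norm_num) hy
  have h4 := rk_order (Ω := S ⧸ H) (x := (x * y)⁻¹) (e := 11) (by rw [orderOf_inv, ht]) (by norm_num)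
  have h6 : Nat.card (S ⧸ H) = H.index := rfl
  rw [← Nat.card_eq_fintype_card, h6] at h1 h2 h3 h4
  rw [h6]
  omega

theorem rows_2_3_11 {S : Type u} [Group S] [Finite S] {x y : S} (hx : orderOf x = 2) (hy : orderOf y = 3)
    (ht : orderOf (x * y) = 11) (hgen : closure ({x, y} : Set S) = ⊤) (hbig : ∀ H : Subgroup S, H ≠ ⊤ → 12 ≤ H.index) :
    FprRow 3 1 2 S ∧ FprRow 4 1 3 S := by
  constructor
  · intro H hH
    refine ⟨x, ⟨1, by rw [hx, pow_one]⟩, ?_⟩
    have := fix_2_3_11 hx hy ht hgen (hbig H hH)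
    omega
  · intro H hH
    refine ⟨y, ⟨1, by rw [hy, pow_one]⟩, ?_⟩
    have := fix_2_3_11 hx hy ht hgen (hbig H hH)
    omega

/-- two generating elements have no common fixed point -/
theorem fix_add_le {S : Type u} [Group S] [Finite S] {x y : S} (hgen : closure ({x, y} : Set S) = ⊤) {H : Subgroup S}
    (hH : H ≠ ⊤) : Nat.card (fixedBy (S ⧸ H) x) + Nat.card (fixedBy (S ⧸ H) y) ≤ Nat.card (S ⧸ H) := by
  have hd : Disjoint (fixedBy (S ⧸ H) x) (fixedBy (S ⧸ H) y) := by
    rw [Set.disjoint_left]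
    intro w hx hy
    refine eq_empty_of_closure hgen hH (X := S ⧸ H) (ω := ((1 : S) : S ⧸ H)) (stabilizer_quotient H) w ?_
    rintro z (rfl | hz)
    · exact hx
    · rw [Set.mem_singleton_iff] at hz
      rw [hz]
      exact hy
  rw [Nat.card_coe_set_eq, Nat.card_coe_set_eq, ← Set.ncard_union_eq hd]
  exact Set.ncard_le_card _

/-- the least index of a proper subgroup from the engine -/
theorem index_ge {G : Type u} [Group G] {l : List (ℕ × ℕ)} {n : ℕ} {ords : List ℕ} {loc : List LD}
    (c : Ctx G l n ords loc) (K bd : ℕ)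
    (hc : ((List.range K).all fun d => Nat.ble d 1 || n % d != 0 || bad l n [] bd loc ords (n / d)) = true)
    (H : Subgroup G) (hH : H ≠ ⊤) : K ≤ H.index := by
  have := c.fin
  have := c.simple
  by_contra hlt
  rw [List.all_eq_true] at hc
  have h1 := hc _ (List.mem_range.2 (not_le.1 hlt))
  rw [Bool.or_eq_true, Bool.or_eq_true, Nat.ble_eq, bne_iff_ne] at h1
  have hdiv : n / H.index = Nat.card H := by
    rw [← c.card]
    exact Nat.div_eq_of_eq_mul_left (Nat.pos_of_ne_zero index_ne_zero_of_finite) (card_mul_index H).symm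
  rcases h1 with (h1 | h1) | h1
  · have h2 : H.index ≠ 0 := index_ne_zero_of_finite
    exact absurd (index_eq_one.1 (by omega)) hH
  · exact absurd (Nat.mod_eq_zero_of_dvd (by rw [← c.card]; exact index_dvd_card H)) h1
  · rw [hdiv, not_bad c.val c.card c.ords c.loc (fun p hp => absurd hp List.not_mem_nil) hH] at h1
    exact absurd h1 (by decide)

/-- fixed points of a `p`-group all of whose elements have the same number of fixed points -/
theorem fix_sylow_modEq {S : Type u} [Group S] [Finite S] {H P : Subgroup S} {f : ℕ}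
    (hf : ∀ s ∈ P, s ≠ 1 → Nat.card (fixedBy (S ⧸ H) s) = f) :
    ∃ k, Nat.card (S ⧸ H) + (Nat.card P - 1) * f = k * Nat.card P := by
  classical
  have := Fintype.ofFinite (S ⧸ H)
  have := Fintype.ofFinite P
  have := Fintype.ofFinite (MulAction.orbitRel.Quotient P (S ⧸ H))
  have h1 := MulAction.sum_card_fixedBy_eq_card_orbits_mul_card_group P (S ⧸ H)
  refine ⟨Fintype.card (Quotient (MulAction.orbitRel P (S ⧸ H))), ?_⟩
  rw [Nat.card_eq_fintype_card (α := P), ← h1, ← Finset.add_sum_erase _ _ (Finset.mem_univ (1 : P))]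
  congr 1
  · rw [Nat.card_eq_fintype_card]
    refine (Fintype.card_congr ?_).symm
    exact { toFun := fun w => w.1, invFun := fun w => ⟨w, one_smul P w⟩, left_inv := fun _ => rfl, right_inv := fun _ => rfl }
  · rw [Finset.sum_congr rfl (g := fun _ => f), Finset.sum_const, Finset.card_erase_of_mem (Finset.mem_univ _),
      Finset.card_univ, smul_eq_mul]
    intro s hs
    have h2 := hf (s : S) s.2 (fun h => (Finset.mem_erase.1 hs).1 (Subtype.ext h))
    rw [← h2, Nat.card_eq_fintype_card]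
    exact Fintype.card_congr (Equiv.refl _)

end Cfsg.Agent.H715.Fpr
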