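import Cfsg.Agent.H715.Fpr.MathData
import Cfsg.Agent.H715.Fpr.ReeTool
import Cfsg.Agent.H715.Fpr.GenM12

/-!
# Fixed point ratios: `M12` (helper715)
-/

set_option autoImplicit false

namespace Cfsg.Agent.H715.Fpr.M12

open Cfsg Subgroup Cfsg.Agent.H409 Cfsg.Agent.OrdDiv Cfsg.Agent.H940.Eng Cfsg.Agent.H940.Eng.D
open Cfsg.Agent.H715.Fpr.MathData

theorem fin : Finite Spor.M12 := Nat.finite_of_card_ne_zero (by rw [card12]; decide)

def loc : List LD := [⟨5, 10, [(2, 3), (5, 1)]⟩, ⟨11, 11, [(5, 1), (11, 1)]⟩]

theorem ctx (B : Base) : Ctx Spor.M12 l_m12 n_m12 o_m12 loc where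
  fin := fin
  simple := simple12
  card := card12
  val := v_m12
  nodup := nd_m12
  ords := ords_m12 B
  loc := by
    have := fin
    have := simple12
    intro ld hld
    simp only [loc, List.mem_cons, List.not_mem_nil, or_false] at hld
    rcases hld with rfl | rfl
    · exact loc_of_eq card12 (by decide +kernel) (by decide +kernel) (by decide +kernel) fun R hR => by
        obtain ⟨h1, h2⟩ := cn12_5 hR
        rw [h1, h2]; decide
    · exact loc_of_eq card12 (by decide +kernel) (by decide +kernel) (by decide +kernel) fun R hR => by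
        obtain ⟨h1, h2⟩ := cn12_11 hR
        rw [h1, h2]; decide

theorem row5 (B : Base) : FprRow 6 1 5 Spor.M12 := by
  have := fin
  exact row_of_act3 (ctx B) (q := 11) (N := 55) (by decide +kernel) (by decide +kernel) (by decide +kernel)
    (acts_of card12 (by decide +kernel) (by decide +kernel) (by decide +kernel) (fun _ hR => cn12_11 hR) 1
      (by decide +kernel))
    (fun _ hR => (cn12_11 hR).2) 60 0 lb_zero [12] 0 (by decide +kernel) (by decide +kernel)

theorem row11 (B : Base) : FprRow 12 1 11 Spor.M12 :=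
  row_of_norm3 (ctx B) (by decide +kernel) (by decide +kernel) (by decide +kernel) (fun _ hR => (cn12_11 hR).2)
    60 0 lb_zero [12] 0 (by decide +kernel) (by decide +kernel)

theorem row2 (B : Base) : FprRow 3 1 2 Spor.M12 := by
  have := fin
  exact (rows_2_3_11 GenM12.order_A GenM12.order_B GenM12.order_AB GenM12.closure_top
    (index_ge (ctx B) 12 0 (by decide +kernel))).1

theorem row3 (B : Base) : FprRow 4 1 3 Spor.M12 := by
  have := fin
  exact (rows_2_3_11 GenM12.order_A GenM12.order_B GenM12.order_AB GenM12.closure_top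
    (index_ge (ctx B) 12 0 (by decide +kernel))).2

/-- **the rows of `M12`** -/
theorem row (B : Base) {p : ℕ} (hp : p.Prime) (hd : p ∣ Nat.card Spor.M12) : FprRow (p + 1) 1 p Spor.M12 := by
  have h1 := valid_mem v_m12 hp (by rw [← card12]; exact hd)
  simp only [l_m12, List.map_cons, List.map_nil, List.mem_cons, List.not_mem_nil, or_false] at h1
  rcases h1 with rfl | rfl | rfl | rfl
  · exact row2 B
  · exact row3 B
  · exact row5 B
  · exact row11 B

universe u in
theorem rowIso (B : Base) {S : Type u} [Group S] (h : Cfsg.Spor.IsoM12 S) {p : ℕ} (hp : p.Prime)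
    (hd : p ∣ Nat.card S) : FprRow (p + 1) 1 p S := by
  obtain ⟨e⟩ := h
  have := fin
  exact (row B hp (by rw [← Nat.card_congr e.toEquiv]; exact hd)).of_mulEquiv hp e.symm

end Cfsg.Agent.H715.Fpr.M12
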