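import Cfsg.Prelude.Def_Spor_Mathieu
import Cfsg.Agent.H994.TwoGen.Basic
import Cfsg.Agent.H994.TwoGen.Chain
import Cfsg.Agent.MTwelveType.SylowModel
import Cfsg.Agent.J4.M24Hom
import Cfsg.Agent.H807.El.Mathieu

/-!
# Two elements of order 3 generating `M11` (helper715)
-/

set_option autoImplicit false

namespace Cfsg.Agent.H715.Fpr.GenM11

open Cfsg Cfsg.Agent.H994.TwoGen Cfsg.Agent.H994.TwoGen.Chain
open Cfsg.Agent.J4.M24Hom (fn)

/-- table of `X` -/
def tx : List ℕ := [0, 18, 9, 8, 4, 17, 3, 14, 6, 13, 7, 11, 12, 2, 10, 15, 1, 23, 16, 21, 20, 22, 19, 5]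
/-- table of `X⁻¹` -/
def txi : List ℕ := [0, 16, 13, 6, 4, 23, 8, 10, 3, 2, 14, 11, 12, 9, 7, 15, 18, 5, 1, 22, 20, 19, 21, 17]
/-- table of `Y` -/
def ty : List ℕ := [0, 1, 2, 4, 12, 15, 16, 7, 9, 13, 10, 22, 3, 8, 21, 19, 18, 17, 6, 5, 14, 20, 23, 11]
/-- table of `Y⁻¹` -/
def tyi : List ℕ := [0, 1, 2, 12, 3, 19, 18, 7, 13, 8, 10, 23, 4, 9, 20, 5, 6, 17, 16, 15, 21, 14, 11, 22]

/-- the first generator -/
def X : Equiv.Perm GolayPt where
  toFun := fn tx
  invFun := fn txi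
  left_inv := by decide +kernel
  right_inv := by decide +kernel

/-- the second generator -/
def Y : Equiv.Perm GolayPt where
  toFun := fn ty
  invFun := fn tyi
  left_inv := by decide +kernel
  right_inv := by decide +kernel

theorem X_mem24 : X ∈ M24 :=
  SporadicA.GolayWalk.mem_M24_of_table X tx rfl (by decide +kernel) (by decide +kernel)

theorem Y_mem24 : Y ∈ M24 :=
  SporadicA.GolayWalk.mem_M24_of_table Y ty rfl (by decide +kernel) (by decide +kernel)

open Cfsg.Agent.SporadicStructure.M11InvPerms Cfsg.Agent.MTwelveType.SylowModel in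
theorem X_dd : ∀ p ∈ dd, X p ∈ dd := by decide +kernel

open Cfsg.Agent.SporadicStructure.M11InvPerms Cfsg.Agent.MTwelveType.SylowModel in
theorem Y_dd : ∀ p ∈ dd, Y p ∈ dd := by decide +kernel

theorem X_mem : X ∈ Spor.M11 := by
  refine Subgroup.mem_inf.2 ⟨MTwelveType.SylowModel.mem_M12 X_mem24 X_dd, ?_⟩
  rw [MulAction.mem_stabilizer_iff]
  show X (some 0) = some 0
  decide +kernel

theorem Y_mem : Y ∈ Spor.M11 := by
  refine Subgroup.mem_inf.2 ⟨MTwelveType.SylowModel.mem_M12 Y_mem24 Y_dd, ?_⟩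
  rw [MulAction.mem_stabilizer_iff]
  show Y (some 0) = some 0
  decide +kernel

/-- the stabiliser chain -/
def chain : List (GolayPt × List (List ℕ)) :=
  [(some 1, [[], [0], [2], [1, 0], [0, 1, 0], [2, 1, 0], [1, 0, 1, 0], [1, 2, 1, 0], [3, 0, 1, 0], [3, 2, 1, 0], [2, 1,
    2, 1, 0]]),
   (some 2, [[], [0, 3, 0], [2, 1, 2], [1, 0, 3, 0], [1, 2, 1, 2], [3, 0, 3, 0], [3, 2, 1, 2], [2, 1, 2, 1, 0, 3, 0],
    [1, 2, 1, 2, 1, 0, 3, 0], [3, 2, 1, 2, 1, 0, 3, 0]]),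
   (some 3, [[], [1], [3], [0, 1, 0, 1, 0, 1, 2, 1, 0], [0, 3, 0, 1, 0, 3, 2, 3, 0], [2, 1, 2, 1, 2, 1, 0, 1, 2], [2,
    3, 2, 1, 2, 3, 0, 3, 2], [1, 0, 3, 0, 1, 0, 3, 2, 3, 0], [3, 0, 1, 0, 1, 0, 1, 2, 1, 0]]),
   (some 4, [[], [0, 1, 0, 1, 0, 1, 2, 1, 0, 3], [1, 0, 3, 2, 3, 0, 3, 0, 3, 0], [1, 2, 3, 0, 3, 2, 3, 2, 3, 2], [2,
    1, 2, 1, 2, 1, 0, 1, 2, 3], [2, 3, 2, 1, 2, 3, 0, 3, 2, 1], [3, 0, 1, 2, 1, 0, 3, 0, 1, 0], [3, 0, 3, 2, 1, 0, 1,
    2, 3, 0, 3, 2, 1, 0]])]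

theorem chain_ok : ok X Y [] chain = true := by decide +kernel

theorem size_chain : size chain = 7920 := by decide +kernel

theorem closure_eq : Subgroup.closure ({X, Y} : Set (Equiv.Perm GolayPt)) = Spor.M11 :=
  Chain.closure_eq X_mem Y_mem chain chain_ok (by rw [size_chain, H807.El.card_M11])

/-- the first generator as an element of the group -/
def A : Spor.M11 := ⟨X, X_mem⟩
/-- the second generator as an element of the group -/
def B : Spor.M11 := ⟨Y, Y_mem⟩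

theorem closure_top : Subgroup.closure ({A, B} : Set Spor.M11) = ⊤ := by
  apply Subgroup.map_injective (Subgroup.subtype_injective Spor.M11)
  rw [MonoidHom.map_closure, Set.image_pair]
  simp only [Subgroup.coe_subtype]
  rw [← MonoidHom.range_eq_map, Subgroup.range_subtype]
  exact closure_eq

theorem order_A : orderOf A = 3 := by
  have := Fact.mk (show Nat.Prime 3 by norm_num)
  refine orderOf_eq_prime (Subtype.ext ?_) fun h => ?_
  · show X ^ 3 = 1
    decide +kernel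
  · have h1 : X = 1 := congrArg Subtype.val h
    exact absurd h1 (by decide +kernel)

theorem order_B : orderOf B = 3 := by
  have := Fact.mk (show Nat.Prime 3 by norm_num)
  refine orderOf_eq_prime (Subtype.ext ?_) fun h => ?_
  · show Y ^ 3 = 1
    decide +kernel
  · have h1 : Y = 1 := congrArg Subtype.val h
    exact absurd h1 (by decide +kernel)

end Cfsg.Agent.H715.Fpr.GenM11
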